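import Groth.Agent.EtaleBase.InjCoh
import Groth.Agent.EtaleBase.Limit.Acyclic
import Groth.Agent.EtaleBase.Limit.SecClass
import Mathlib.AlgebraicGeometry.Gluing
import Mathlib.Algebra.Category.Grp.Adjunctions

/-!
Sheaves acyclic on every étale scheme are flasque along open immersions.
-/

set_option autoImplicit false

universe u

open CategoryTheory CategoryTheory.Limits CategoryTheory.Abelian AlgebraicGeometry Opposite

namespace Groth.EtaleBase.Flasque

variable {X : Scheme.{u}}

/-- The free abelian presheaf on an étale scheme. -/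
noncomputable def freeY (U : X.Etale) : X.Etaleᵒᵖ ⥤ AddCommGrpCat.{u + 1} :=
  yoneda.obj U ⋙ uliftFunctor.{u + 1} ⋙ AddCommGrpCat.free.{u + 1}

/-- Sections of an injective presheaf extend along a monomorphism. -/
theorem exists_extend (P : X.Etaleᵒᵖ ⥤ AddCommGrpCat.{u + 1}) [Injective P] {U V : X.Etale} (g : V ⟶ U)
    [Mono g] (s : P.obj (op V)) : ∃ r : P.obj (op U), P.map g.op r = s := by
  let α : freeY V ⟶ freeY U := Functor.whiskerRight (yoneda.map g) (uliftFunctor.{u + 1} ⋙ AddCommGrpCat.free)
  haveI : Mono α := by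
    haveI : ∀ T, Mono (α.app T) := fun T => by
      haveI : Mono (uliftFunctor.{u + 1}.map ((yoneda.map g).app T)) := (mono_iff_injective _).2
        fun a b h => ULift.ext _ _ ((cancel_mono g).1 (congrArg ULift.down h))
      exact inferInstanceAs (Mono (AddCommGrpCat.free.{u + 1}.map (uliftFunctor.{u + 1}.map ((yoneda.map g).app T))))
    exact NatTrans.mono_of_mono_app _
  let φ : freeY V ⟶ P :=
    { app := fun T => AddCommGrpCat.ofHom (FreeAbelianGroup.lift fun a => P.map a.down.op s)
      naturality := fun T T' h => by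
        ext : 1
        apply FreeAbelianGroup.lift_ext
        intro a
        change FreeAbelianGroup.lift _ (FreeAbelianGroup.map _ (FreeAbelianGroup.of a)) =
          P.map h (FreeAbelianGroup.lift _ (FreeAbelianGroup.of a))
        rw [FreeAbelianGroup.map_of_apply, FreeAbelianGroup.lift_apply_of, FreeAbelianGroup.lift_apply_of]
        exact Functor.map_comp_apply P a.down.op h s }
  let ψ := Injective.factorThru φ α
  refine ⟨ψ.app (op U) (FreeAbelianGroup.of ⟨𝟙 U⟩), ?_⟩
  refine (NatTrans.naturality_apply ψ g.op _).symm.trans ?_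
  have h1 := ConcreteCategory.congr_hom (congrArg (fun z => z.app (op V)) (Injective.comp_factorThru φ α))
    (show (freeY V).obj (op V) from FreeAbelianGroup.of (⟨𝟙 V⟩ : ULift.{u + 1} (V ⟶ V)))
  change ψ.app (op V) (FreeAbelianGroup.map _ (FreeAbelianGroup.of _)) =
    FreeAbelianGroup.lift _ (FreeAbelianGroup.of _) at h1
  change ψ.app (op V) (FreeAbelianGroup.map _ (FreeAbelianGroup.of _)) = _
  rw [FreeAbelianGroup.map_of_apply] at h1 ⊢
  rw [FreeAbelianGroup.lift_apply_of] at h1
  refine Eq.trans ?_ (h1.trans (EtLimit.map_one_apply P s))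
  exact congrArg (fun m => ψ.app (op V) (FreeAbelianGroup.of ⟨m⟩))
    ((Category.comp_id g).trans (Category.id_comp g).symm)

set_option backward.isDefEq.respectTransparency.types false in
/-- The double of an étale scheme along an open. -/
theorem exists_double {U V : X.Etale} (g : V ⟶ U) [IsOpenImmersion g.left] :
    ∃ (W : X.Etale) (a b : U ⟶ W), Mono a ∧ Mono b ∧ g ≫ a = g ≫ b ∧
      (∀ x : W.left, x ∈ Set.range a.left.base ∨ x ∈ Set.range b.left.base) ∧
      ∀ (T : X.Etale) (p q : T ⟶ U), p ≫ a = q ≫ b → p = q ∧ ∃ l : T ⟶ V, l ≫ g = p := by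
  let F := span g.left g.left
  haveI : ∀ {i j} (f : i ⟶ j), IsOpenImmersion (F.map f) := by
    intro i j f
    rcases f with _ | (_ | _)
    · simp only [WidePushoutShape.hom_id, CategoryTheory.Functor.map_id]; infer_instance
    · exact inferInstanceAs (IsOpenImmersion g.left)
    · exact inferInstanceAs (IsOpenImmersion g.left)
  haveI : HasPushout g.left g.left := inferInstanceAs (HasColimit F)
  let hd : colimit F ⟶ X := pushout.desc (U.hom : U.left ⟶ X) U.hom rfl
  have hl : colimit.ι F WalkingSpan.left ≫ hd = U.hom := colimit.ι_desc _ WalkingSpan.left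
  have hr : colimit.ι F WalkingSpan.right ≫ hd = U.hom := colimit.ι_desc _ WalkingSpan.right
  have hcov : ∀ x : ↥(colimit F), x ∈ Set.range (colimit.ι F WalkingSpan.left).base ∨
      x ∈ Set.range (colimit.ι F WalkingSpan.right).base := by
    intro x
    obtain ⟨i, xi, rfl⟩ := Scheme.IsLocallyDirected.ι_jointly_surjective F x
    rcases i with _ | (_ | _)
    · refine Or.inl ⟨g.left xi, ?_⟩
      exact (Scheme.Hom.comp_apply _ _ _).symm.trans
        (congrArg (fun m : V.left ⟶ colimit F => m xi) (colimit.w F WalkingSpan.Hom.fst))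
    · exact Or.inl ⟨xi, rfl⟩
    · exact Or.inr ⟨xi, rfl⟩
  haveI : AlgebraicGeometry.Etale hd := by
    rw [IsZariskiLocalAtSource.iff_of_iSup_eq_top (P := @AlgebraicGeometry.Etale)
      (fun i : Bool => bif i then (colimit.ι F WalkingSpan.left).opensRange
        else (colimit.ι F WalkingSpan.right).opensRange)
      (top_unique fun x _ => by
        rcases hcov x with h | h
        · exact TopologicalSpace.Opens.mem_iSup.2 ⟨true, h⟩
        · exact TopologicalSpace.Opens.mem_iSup.2 ⟨false, h⟩)]
    rintro (_ | _)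
    · change AlgebraicGeometry.Etale ((colimit.ι F WalkingSpan.right).opensRange.ι ≫ hd)
      rw [show (colimit.ι F WalkingSpan.right).opensRange.ι =
          (colimit.ι F WalkingSpan.right).isoOpensRange.inv ≫ colimit.ι F WalkingSpan.right from
          (Scheme.Hom.isoOpensRange_inv_comp _).symm, Category.assoc, hr]
      exact MorphismProperty.comp_mem (@AlgebraicGeometry.Etale) _ _ inferInstance U.prop
    · change AlgebraicGeometry.Etale ((colimit.ι F WalkingSpan.left).opensRange.ι ≫ hd)
      rw [show (colimit.ι F WalkingSpan.left).opensRange.ι =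
          (colimit.ι F WalkingSpan.left).isoOpensRange.inv ≫ colimit.ι F WalkingSpan.left from
          (Scheme.Hom.isoOpensRange_inv_comp _).symm, Category.assoc, hl]
      exact MorphismProperty.comp_mem (@AlgebraicGeometry.Etale) _ _ inferInstance U.prop
  let W : X.Etale := Scheme.Etale.mk hd
  let a : U ⟶ W := MorphismProperty.Over.homMk (colimit.ι F WalkingSpan.left) hl
  let b : U ⟶ W := MorphismProperty.Over.homMk (colimit.ι F WalkingSpan.right) hr
  refine ⟨W, a, b, ⟨fun c d h => MorphismProperty.Over.Hom.ext ((cancel_mono (colimit.ι F WalkingSpan.left)).1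
      (congrArg (fun m => m.left) h))⟩,
    ⟨fun c d h => MorphismProperty.Over.Hom.ext ((cancel_mono (colimit.ι F WalkingSpan.right)).1
      (congrArg (fun m => m.left) h))⟩,
    MorphismProperty.Over.Hom.ext (pushout.condition (f := g.left) (g := g.left)), hcov, fun T p q h => ?_⟩
  have h' : p.left ≫ colimit.ι F WalkingSpan.left = q.left ≫ colimit.ι F WalkingSpan.right :=
    congrArg (fun m => m.left) h
  let d : colimit F ⟶ U.left := pushout.desc (𝟙 _) (𝟙 _) rfl
  have hpq : p.left = q.left := by
    have e1 : colimit.ι F WalkingSpan.left ≫ d = 𝟙 _ := colimit.ι_desc _ WalkingSpan.left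
    have e2 : colimit.ι F WalkingSpan.right ≫ d = 𝟙 _ := colimit.ι_desc _ WalkingSpan.right
    exact (Category.comp_id p.left).symm.trans ((congrArg (p.left ≫ ·) e1.symm).trans
      ((Category.assoc _ _ _).symm.trans ((congrArg (· ≫ d) h').trans
        ((Category.assoc _ _ _).trans ((congrArg (q.left ≫ ·) e2).trans (Category.comp_id q.left))))))
  refine ⟨MorphismProperty.Over.Hom.ext hpq, ?_⟩
  have hrange : Set.range p.left.base ⊆ Set.range g.left.base := by
    rintro _ ⟨z, rfl⟩
    obtain ⟨k, fi, fj, x, hx, -⟩ := (Scheme.IsLocallyDirected.ι_eq_ι_iff F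
      (i := WalkingSpan.left) (j := WalkingSpan.right) (xi := p.left z) (xj := q.left z)).1
      ((Scheme.Hom.comp_apply _ _ _).symm.trans ((congrArg (fun m : T.left ⟶ colimit F => m z) h').trans
        (Scheme.Hom.comp_apply _ _ _)))
    rcases fi with _ | _
    · exact nomatch fj
    · exact ⟨x, hx⟩
  exact ⟨MorphismProperty.Over.homMk (IsOpenImmersion.lift g.left p.left hrange)
    ((congrArg (_ ≫ ·) (MorphismProperty.Over.w g).symm).trans ((Category.assoc _ _ _).symm.trans
      ((congrArg (· ≫ U.hom) (IsOpenImmersion.lift_fac _ _ _)).trans (MorphismProperty.Over.w p)))),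
    MorphismProperty.Over.Hom.ext (IsOpenImmersion.lift_fac _ _ _)⟩

set_option backward.isDefEq.respectTransparency.types false in
/-- Acyclicity on every étale scheme gives surjective restrictions along open immersions. -/
theorem map_surjective (F : EtCoh.Ab X)
    (hF : ∀ (W : X.Etale) (q : ℕ), 0 < q → Subsingleton (EtCoh.H W.left ((EtCoh.pull W.hom).obj F) q))
    {U V : X.Etale} (g : V ⟶ U) [IsOpenImmersion g.left] :
    Function.Surjective (F.obj.map g.op).hom := by
  intro s
  let f := Injective.ι F
  let π := cokernel.π f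
  have hS : (ShortComplex.mk f π (cokernel.condition f)).ShortExact :=
    { exact := ShortComplex.exact_of_g_is_cokernel _ (cokernelIsCokernel f) }
  have hex := fun Z => EtLimit.sections_exact hS Z
  haveI := InjCoh.injective_presheaf (Injective.under F)
  haveI : Mono g := ⟨fun c d h => MorphismProperty.Over.Hom.ext ((cancel_mono g.left).1
    (congrArg (fun m => m.left) h))⟩
  obtain ⟨r, hr⟩ := exists_extend (Injective.under F).obj g (f.hom.app (op V) s)
  obtain ⟨W, a, b, ha, hb, hab, hcov, hW⟩ := exists_double g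
  -- glue
  have hr0 : ∀ {T : X.Etale} (l : T ⟶ V), (cokernel f).obj.map (l ≫ g).op (π.hom.app (op U) r) = 0 := by
    intro T l
    rw [← NatTrans.naturality_apply π.hom, op_comp, Functor.map_comp_apply, hr,
      ← NatTrans.naturality_apply f.hom]
    exact (hex _).2.2 _
  let m : Bool → (U ⟶ W) := fun i => bif i then a else b
  let val : Bool → (cokernel f).obj.obj (op U) := fun i => bif i then π.hom.app (op U) r else 0
  have hcovs : Sieve.generate (Presieve.ofArrows (fun _ : Bool => U) m) ∈ X.smallEtaleTopology W := by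
    rw [mem_topology_iff]
    intro x
    rcases hcov x with ⟨y, hy⟩ | ⟨y, hy⟩
    · exact ⟨_, m true, y, Sieve.le_generate _ _ _ (Presieve.ofArrows.mk true), hy⟩
    · exact ⟨_, m false, y, Sieve.le_generate _ _ _ (Presieve.ofArrows.mk false), hy⟩
  have hsh := ((isSheaf_iff_isSheaf_of_type _ _).1
    ((sheafCompose X.smallEtaleTopology (forget AddCommGrpCat.{u + 1})).obj (cokernel f)).2) _ hcovs
  rw [← Presieve.isSheafFor_iff_generate, Presieve.isSheafFor_arrows_iff] at hsh
  obtain ⟨q, hq, -⟩ := hsh val (fun i j T p p' e => by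
    change (cokernel f).obj.map p.op (val i) = (cokernel f).obj.map p'.op (val j)
    cases i <;> cases j
    · rw [(cancel_mono b).1 e]
    · obtain ⟨rfl, l, rfl⟩ := hW T p' p e.symm
      exact (map_zero _).trans (hr0 l).symm
    · obtain ⟨rfl, l, rfl⟩ := hW T p p' e
      exact (hr0 l).trans (map_zero _).symm
    · rw [(cancel_mono a).1 e])
  -- lift
  haveI : AlgebraicGeometry.Etale W.hom := W.prop
  haveI : PreservesFiniteLimits (EtCoh.pull W.hom) := inferInstance
  have hS' := hS.map_of_exact (EtCoh.pull W.hom)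
  haveI : Injective ((EtCoh.pull W.hom).obj (Injective.under F)) := InjCoh.pull_injective W.hom _
  have h1 := hF W 1 Nat.one_pos
  obtain ⟨y', hy'⟩ : ∃ y', ((EtCoh.pull W.hom).map π).hom.app (op (EtCoh.top W.left)) y' =
      EtLimit.sec W.hom W (𝟙 W.left) (Category.id_comp _) (cokernel f) q := by
    let z := (EtLimit.Resn.ev ((EtCoh.pull W.hom).obj (cokernel f))).symm
      (EtLimit.sec W.hom W (𝟙 W.left) (Category.id_comp _) (cokernel f) q)
    obtain ⟨y, hy⟩ := Ext.covariant_sequence_exact₃ _ hS' (Ext.mk₀ z) (zero_add 1)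
      (Subsingleton.elim (α := EtCoh.H W.left ((EtCoh.pull W.hom).obj F) 1) _ _)
    obtain ⟨y, rfl⟩ := (Ext.mk₀_bijective _ _).2 y
    refine ⟨EtLimit.Resn.ev _ y, ?_⟩
    refine (EtLimit.Resn.ev_comp y _).symm.trans ?_
    refine (congrArg _ (show y ≫ (EtCoh.pull W.hom).map π = z from
      (Ext.mk₀_bijective _ _).1 ((Ext.mk₀_comp_mk₀ _ _).symm.trans hy))).trans ?_
    exact AddEquiv.apply_symm_apply _ _
  obtain ⟨y, rfl⟩ := (EtLimit.sec_bijective W (Injective.under F)).2 y'
  have hy : π.hom.app (op W) y = q := (EtLimit.sec_bijective W (cokernel f)).1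
    ((EtLimit.sec_map W.hom W (𝟙 W.left) (Category.id_comp _) π y).trans hy')
  obtain ⟨a₁, ha₁⟩ := (hex (op U)).2.1 (r - (Injective.under F).obj.map a.op y) (by
    change π.hom.app _ (r - _) = 0
    rw [map_sub, NatTrans.naturality_apply π.hom, hy]
    exact sub_eq_zero.2 (hq true).symm)
  obtain ⟨a₂, ha₂⟩ := (hex (op U)).2.1 ((Injective.under F).obj.map b.op y) (by
    change π.hom.app _ _ = 0
    rw [NatTrans.naturality_apply π.hom, hy]
    exact hq false)
  refine ⟨a₁ + a₂, (hex (op V)).1 ?_⟩
  change f.hom.app (op V) (F.obj.map g.op (a₁ + a₂)) = f.hom.app (op V) s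
  change f.hom.app (op U) a₁ = _ at ha₁
  change f.hom.app (op U) a₂ = _ at ha₂
  rw [NatTrans.naturality_apply f.hom, map_add, ha₁, ha₂, map_add, map_sub, hr]
  rw [← Functor.map_comp_apply, ← Functor.map_comp_apply, ← op_comp, ← op_comp, hab, sub_add_cancel]

end Groth.EtaleBase.Flasque
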