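import Groth.Agent.EtaleBase.GmPic.Local
import Groth.Agent.EtaleBase.MayerVietoris
import Groth.Agent.EtaleBase.Limit.SecClass

/-!
`R¹ε_* 𝔾ₘ = 0`: classes in `H¹(X, 𝔾ₘ)` vanish Zariski locally; `H¹` of a local scheme.
-/

set_option autoImplicit false

universe u

open CategoryTheory CategoryTheory.Limits CategoryTheory.Abelian AlgebraicGeometry Opposite

namespace Groth.EtaleBase.GmPic

variable {X : Scheme.{u}}

/-- The morphism to the final object. -/
noncomputable def toTop (T : X.Etale) : T ⟶ EtCoh.top X :=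
  MorphismProperty.Over.homMk T.hom (Category.comp_id _)

lemma hom_top_eq {T : X.Etale} (a b : T ⟶ EtCoh.top X) : a = b := by
  refine MorphismProperty.Over.Hom.ext ?_
  exact (Category.comp_id _).symm.trans ((MorphismProperty.Over.w a).trans
    ((MorphismProperty.Over.w b).symm.trans (Category.comp_id _)))

set_option backward.isDefEq.respectTransparency.types false in
/-- A global section of a quotient by `𝔾ₘ` lifts on a neighbourhood of any point. -/
theorem exists_open_lift {I Q : EtCoh.Ab X} (f : EtCoh.Gm X ⟶ I) (g : I ⟶ Q) (w : f ≫ g = 0)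
    (hS : (ShortComplex.mk f g w).ShortExact) (q : Q.obj.obj (op (EtCoh.top X))) (x : X) :
    ∃ (U : X.Opens) (_ : x ∈ U) (y : I.obj.obj (op (Scheme.Etale.mk U.ι))),
      g.hom.app _ y = Q.obj.map (toTop (Scheme.Etale.mk U.ι)).op q := by
  obtain ⟨_, ⟨W, hW, rfl⟩, hxW, -⟩ := X.isBasis_affineOpens.exists_subset_of_mem_open
    (Set.mem_univ x) isOpen_univ
  haveI : Algebra.Etale Γ(X, W) Γ(X, W) := inferInstance
  obtain ⟨f₀, hf₀, _, y, hy⟩ := exists_lift hW.fromSpec f g w hS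
    (Q.obj.map (toTop (et hW.fromSpec Γ(X, W))).op q) (hW.primeIdealOf ⟨x, hxW⟩)
  let D := et hW.fromSpec (Localization.Away f₀)
  haveI hloc : IsOpenImmersion D.hom := by
    haveI : IsOpenImmersion (Spec.map (CommRingCat.ofHom
        (algebraMap Γ(X, W) (Localization.Away f₀)))) := IsOpenImmersion.of_isLocalization f₀
    exact MorphismProperty.comp_mem (@IsOpenImmersion) _ hW.fromSpec ‹_› inferInstance
  refine ⟨D.hom.opensRange, ?_, I.obj.map (MorphismProperty.Over.homMk D.hom.isoOpensRange.inv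
    D.hom.isoOpensRange_inv_comp : Scheme.Etale.mk D.hom.opensRange.ι ⟶ D).op y, ?_⟩
  · have hmem : hW.primeIdealOf ⟨x, hxW⟩ ∈ (PrimeSpectrum.basicOpen f₀ : Set (PrimeSpectrum Γ(X, W))) := hf₀
    rw [← PrimeSpectrum.localization_away_comap_range (Localization.Away f₀) f₀] at hmem
    obtain ⟨p, hp⟩ := hmem
    refine ⟨p, ?_⟩
    refine (Scheme.Hom.comp_apply (Spec.map (CommRingCat.ofHom
      (algebraMap Γ(X, W) (Localization.Away f₀)))) hW.fromSpec _).trans ?_
    exact (congrArg hW.fromSpec.base hp).trans (hW.fromSpec_primeIdealOf ⟨x, hxW⟩)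
  · refine (NatTrans.naturality_apply g.hom _ y).trans ?_
    refine (congrArg _ hy).trans ?_
    refine (Functor.map_comp_apply Q.obj _ _ _).symm.trans ?_
    refine (Functor.map_comp_apply Q.obj _ _ _).symm.trans ?_
    exact congrArg (fun a => Q.obj.map a q) (Quiver.Hom.unop_inj (hom_top_eq _ _))

/-- The short exact sequence given by an embedding in an injective sheaf. -/
theorem exists_class (c : EtCoh.H X (EtCoh.Gm X) 1) :
    ∃ (I Q : EtCoh.Ab X) (f : EtCoh.Gm X ⟶ I) (g : I ⟶ Q) (w : f ≫ g = 0)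
      (hS : (ShortComplex.mk f g w).ShortExact) (z : EtCoh.const X ℤ ⟶ Q),
      (Ext.mk₀ z).comp hS.extClass (zero_add 1) = c := by
  let f := Injective.ι (EtCoh.Gm X)
  have hS : (ShortComplex.mk f (cokernel.π f) (cokernel.condition f)).ShortExact :=
    { exact := ShortComplex.exact_of_g_is_cokernel _ (cokernelIsCokernel f) }
  have h0 : c.comp (Ext.mk₀ f) (add_zero 1) = 0 :=
    (InjCoh.H_injective (Injective.under (EtCoh.Gm X)) 1 le_rfl).elim _ _
  obtain ⟨z, hz⟩ := Ext.covariant_sequence_exact₁ _ hS c h0 (zero_add 1)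
  obtain ⟨z, rfl⟩ := (Ext.mk₀_bijective _ _).2 z
  exact ⟨_, _, f, cokernel.π f, cokernel.condition f, hS, z, hz⟩

/-- A class whose section lifts on an open vanishes there. -/
theorem Hpull_eq_zero {I Q : EtCoh.Ab X} {f : EtCoh.Gm X ⟶ I} {g : I ⟶ Q} (w : f ≫ g = 0)
    (hS : (ShortComplex.mk f g w).ShortExact) (z : EtCoh.const X ℤ ⟶ Q) (U : X.Opens)
    [PreservesFiniteLimits (EtCoh.pull U.ι)]
    (y : I.obj.obj (op (Scheme.Etale.mk U.ι)))
    (hy : g.hom.app _ y = Q.obj.map (toTop (Scheme.Etale.mk U.ι)).op (EtLimit.Resn.ev Q z)) :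
    EtCore.Hpull U.ι (EtCoh.Gm X) 1 ((Ext.mk₀ z).comp hS.extClass (zero_add 1)) = 0 := by
  refine (MV.psi_bijective U.ι (EtCoh.Gm X) 1).1 ?_
  rw [MV.psi_Hpull, map_zero, Ext.mk₀_comp_mk₀_assoc]
  let W : X.Etale := Scheme.Etale.mk U.ι
  let w' : EtCoh.const (U : Scheme.{u}) ℤ ⟶ (EtCoh.pull U.ι).obj I :=
    (EtLimit.Resn.ev _).symm (EtLimit.sec W.hom W (𝟙 W.left) (Category.id_comp _) I y)
  have hw' : w' ≫ (EtCoh.pull U.ι).map g =
      (EtCore.pullConst U.ι ℤ).inv ≫ (EtCoh.pull U.ι).map z := by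
    refine (EtLimit.Resn.ev _).injective ?_
    rw [EtLimit.Resn.ev_comp]
    simp only [w', AddEquiv.apply_symm_apply]
    refine (EtLimit.sec_map W.hom W (𝟙 W.left) (Category.id_comp _) g y).symm.trans ?_
    refine (congrArg _ hy).trans ?_
    refine (EtLimit.sec_res W.hom (EtCoh.top X) W.hom (Category.comp_id _)
      (toTop W) (𝟙 W.left) (Category.id_comp _) (Category.id_comp _) Q _).trans ?_
    have e := EtLimit.Resn.ev_pull U.ι z (𝟙 _)
    rw [Category.comp_id, Adjunction.homEquiv_id] at e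
    rw [e]
    refine congrArg (fun a => ((EtCoh.pull U.ι).obj Q).obj.map (Quiver.Hom.op a)
      (((EtCoh.pullPushAdj U.ι).unit.app Q).hom.app _ (EtLimit.Resn.ev Q z))) ?_
    exact (EtCore.bcTopIsTerminal U.ι).hom_ext _ _
  have hlift : ((MV.adj U.ι).homEquiv _ _).symm w' ≫ g = MV.t U.ι ≫ z := by
    refine ((MV.adj U.ι).homEquiv _ _).injective ?_
    rw [Adjunction.homEquiv_naturality_right, Equiv.apply_symm_apply, hw',
      Adjunction.homEquiv_naturality_right, MV.t, Equiv.apply_symm_apply]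
  rw [← hlift, ← Ext.mk₀_comp_mk₀_assoc, hS.comp_extClass, Ext.comp_zero]

/-- `R¹ε_* 𝔾ₘ = 0`. -/
theorem exists_Hpull_eq_zero (c : EtCoh.H X (EtCoh.Gm X) 1) (x : X) :
    ∃ U : X.Opens, x ∈ U ∧ ∀ [PreservesFiniteLimits (EtCoh.pull U.ι)],
      EtCore.Hpull U.ι (EtCoh.Gm X) 1 c = 0 := by
  obtain ⟨I, Q, f, g, w, hS, z, rfl⟩ := exists_class c
  obtain ⟨U, hx, y, hy⟩ := exists_open_lift f g w hS (EtLimit.Resn.ev Q z) x
  exact ⟨U, hx, fun {_} => Hpull_eq_zero w hS z U y hy⟩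

/-- `H¹(X, 𝔾ₘ) = 0` when the only open containing some point is `X`. -/
theorem H_one_Gm_subsingleton (x : X) (hx : ∀ U : X.Opens, x ∈ U → U = ⊤) :
    Subsingleton (EtCoh.H X (EtCoh.Gm X) 1) := by
  refine subsingleton_of_forall_eq 0 fun c => ?_
  obtain ⟨I, Q, f, g, w, hS, z, rfl⟩ := exists_class c
  obtain ⟨U, hxU, y, hy⟩ := exists_open_lift f g w hS (EtLimit.Resn.ev Q z) x
  obtain rfl := hx U hxU
  let e : EtCoh.top X ⟶ Scheme.Etale.mk (⊤ : X.Opens).ι :=
    MorphismProperty.Over.homMk X.topIso.inv (Iso.inv_hom_id X.topIso)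
  have hy' : g.hom.app _ (I.obj.map e.op y) = EtLimit.Resn.ev Q z := by
    rw [NatTrans.naturality_apply g.hom, hy, ← Functor.map_comp_apply, ← op_comp,
      hom_top_eq (e ≫ toTop _) (𝟙 _), op_id]
    exact EtLimit.map_one_apply _ _
  have hlift : (EtLimit.Resn.ev I).symm (I.obj.map e.op y) ≫ g = z := by
    refine (EtLimit.Resn.ev Q).injective ?_
    rw [EtLimit.Resn.ev_comp, AddEquiv.apply_symm_apply, hy']
  rw [← hlift, ← Ext.mk₀_comp_mk₀_assoc, hS.comp_extClass, Ext.comp_zero]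

end Groth.EtaleBase.GmPic
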