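import Groth.Agent.EtaleBase.GmPic.Lift
import Groth.Agent.EtaleBase.Limit.Acyclic
import Groth.Agent.S6005
import Mathlib.AlgebraicGeometry.AffineScheme

/-!
Zariski-local vanishing of `H¹(-, 𝔾ₘ)` in terms of sections: a section of a quotient of a sheaf by
`𝔾ₘ` lifts Zariski locally.
-/

set_option autoImplicit false

universe u

open CategoryTheory CategoryTheory.Limits AlgebraicGeometry Opposite
open scoped TensorProduct

namespace Groth.EtaleBase.GmPic

variable {X : Scheme.{u}}

/-- A unit as a section of `𝔾ₘ`. -/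
noncomputable def gm (T : X.Etale) (a : (Γ(T.left, ⊤) : Type u)ˣ) : (EtCoh.Gm X).obj.obj (op T) :=
  (ULift.up (Additive.ofMul a) : ULift.{u + 1} (Additive (Γ(T.left, ⊤) : Type u)ˣ))

lemma gm_map {T T' : X.Etale} (h : T' ⟶ T) (a : (Γ(T.left, ⊤) : Type u)ˣ) :
    (EtCoh.Gm X).obj.map h.op (gm T a) = gm T' (Units.map h.left.appTop.hom.toMonoidHom a) := rfl

lemma gm_mul (T : X.Etale) (a b : (Γ(T.left, ⊤) : Type u)ˣ) : gm T (a * b) = gm T a + gm T b := rfl

lemma gm_injective (T : X.Etale) : Function.Injective (gm T) := fun _ _ h =>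
  Additive.ofMul.injective (congrArg ULift.down h)

lemma gm_surjective (T : X.Etale) : Function.Surjective (gm T) := fun a =>
  ⟨Additive.toMul (ULift.down a), rfl⟩

variable {A : Type u} [CommRing A] (j : Spec (CommRingCat.of A) ⟶ X) [AlgebraicGeometry.Etale j]
  [Algebra.Etale A A]

section Main

variable {I Q : EtCoh.Ab X} (f : EtCoh.Gm X ⟶ I) (g : I ⟶ Q)

/-- A `Γ`-unit is the value of a ring unit. -/
lemma exists_val_eq {R : Type u} [CommRing R] [Algebra A R] [Algebra.Etale A R]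
    (a : (Γ((et j R).left, ⊤) : Type u)ˣ) : ∃ r : Rˣ, Units.map (val j (𝟙 (et j R))).toMonoidHom r = a := by
  let e := RingEquiv.ofBijective _ (val_id_bijective j (R := R))
  exact ⟨Units.map e.symm.toRingHom.toMonoidHom a, Units.ext (e.apply_symm_apply _)⟩

lemma gm_val {R : Type u} [CommRing R] [Algebra A R] [Algebra.Etale A R] {T : X.Etale}
    (w : T ⟶ et j R) (r : Rˣ) :
    (EtCoh.Gm X).obj.map w.op (gm _ (Units.map (val j (𝟙 (et j R))).toMonoidHom r)) =
      gm T (Units.map (val j w).toMonoidHom r) := by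
  rw [gm_map]
  refine congrArg (gm T) (Units.ext ?_)
  exact ((val_comp j w (𝟙 _) (r : R)).symm.trans (by rw [Category.comp_id]; rfl))

set_option maxHeartbeats 4000000 in
/-- Sections of a quotient by `𝔾ₘ` lift Zariski locally. -/
theorem exists_lift (w : f ≫ g = 0) (hS : (ShortComplex.mk f g w).ShortExact)
    (q : Q.obj.obj (op (et j A))) (x : PrimeSpectrum A) :
    ∃ (f₀ : A) (_ : f₀ ∉ x.asIdeal) (_ : Algebra.Etale A (Localization.Away f₀))
      (y : I.obj.obj (op (et j (Localization.Away f₀)))),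
      g.hom.app _ y = Q.obj.map (etMap j (Algebra.ofId A (Localization.Away f₀))).op q := by
  have hex := fun Z => EtLimit.sections_exact hS Z
  have hφ : Sheaf.IsLocallySurjective g :=
    (Sheaf.isLocallySurjective_iff_epi' (A := AddCommGrpCat.{u + 1}) g).2 hS.epi_g
  obtain ⟨B, _, _, _, _, s, hs⟩ := exists_algebra_lift j g hφ q
  haveI : Algebra.Etale A (B ⊗[A] B) := Algebra.Etale.comp A B (B ⊗[A] B)
  haveI : Algebra.Etale A (B ⊗[A] (B ⊗[A] B)) := Algebra.Etale.comp A B (B ⊗[A] (B ⊗[A] B))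
  -- restrictions of the local lift
  let r : ∀ {T : X.Etale}, (T ⟶ et j B) → I.obj.obj (op T) := fun z => I.obj.map z.op s
  have hrmap : ∀ {T T' : X.Etale} (h : T' ⟶ T) (z : T ⟶ et j B), I.obj.map h.op (r z) = r (h ≫ z) :=
    fun h z => (Functor.map_comp_apply I.obj z.op h.op s).symm
  have hgr : ∀ {T : X.Etale} (z : T ⟶ et j B),
      g.hom.app _ (r z) = Q.obj.map (z ≫ etMap j (Algebra.ofId A B)).op q := fun z => by
    refine (NatTrans.naturality_apply g.hom z.op s).trans ?_
    rw [hs]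
    exact (Functor.map_comp_apply Q.obj _ _ q).symm
  let p₁ : et j (B ⊗[A] B) ⟶ et j B := etMap j (Algebra.TensorProduct.includeLeft : B →ₐ[A] B ⊗[A] B)
  let p₂ : et j (B ⊗[A] B) ⟶ et j B := etMap j (Algebra.TensorProduct.includeRight : B →ₐ[A] B ⊗[A] B)
  obtain ⟨a₀, ha₀⟩ := (hex (op (et j (B ⊗[A] B)))).2.1 (r p₁ - r p₂) (by
    change g.hom.app _ (r p₁ - r p₂) = 0
    rw [map_sub, hgr, hgr, sub_eq_zero, etMap_comp, etMap_comp]
    exact congrArg (fun ψ => Q.obj.map (etMap j ψ).op q) (Subsingleton.elim _ _))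
  obtain ⟨a, rfl⟩ := gm_surjective _ a₀
  obtain ⟨u, rfl⟩ := exists_val_eq j a
  change f.hom.app _ _ = _ at ha₀
  have hw : ∀ {T : X.Etale} (z : T ⟶ et j (B ⊗[A] B)),
      f.hom.app _ (gm T (Units.map (val j z).toMonoidHom u)) = r (z ≫ p₁) - r (z ≫ p₂) := fun z => by
    rw [← gm_val, NatTrans.naturality_apply f.hom, ha₀, map_sub, hrmap, hrmap]
  -- the cocycle condition
  have hc : Pi1Tors.p13 (u : B ⊗[A] B) = Pi1Tors.p23 (u : B ⊗[A] B) * Pi1Tors.p12 (u : B ⊗[A] B) := by
    let P : (B ⊗[A] B →ₐ[A] B ⊗[A] (B ⊗[A] B)) → (Γ((et j (B ⊗[A] (B ⊗[A] B))).left, ⊤) : Type u)ˣ :=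
      fun ψ => Units.map (val j (etMap j ψ)).toMonoidHom u
    let i₁ : B →ₐ[A] B ⊗[A] (B ⊗[A] B) := Algebra.TensorProduct.includeLeft
    let i₂ : B →ₐ[A] B ⊗[A] (B ⊗[A] B) :=
      Algebra.TensorProduct.includeRight.comp Algebra.TensorProduct.includeLeft
    let i₃ : B →ₐ[A] B ⊗[A] (B ⊗[A] B) :=
      Algebra.TensorProduct.includeRight.comp Algebra.TensorProduct.includeRight
    have hp : ∀ (ψ : B ⊗[A] B →ₐ[A] B ⊗[A] (B ⊗[A] B)) (k k' : B →ₐ[A] B ⊗[A] (B ⊗[A] B)),
        ψ.comp Algebra.TensorProduct.includeLeft = k →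
        ψ.comp Algebra.TensorProduct.includeRight = k' →
        f.hom.app _ (gm _ (P ψ)) = r (etMap j k) - r (etMap j k') := fun ψ k k' hk hk' => by
      rw [hw, etMap_comp, etMap_comp, hk, hk']
    have e12 := hp Pi1Tors.p12 i₁ i₂ (AlgHom.ext fun b => by simp [Pi1Tors.p12, i₁])
      (AlgHom.ext fun b => by simp [Pi1Tors.p12, i₂])
    have e23 := hp Pi1Tors.p23 i₂ i₃ rfl rfl
    have e13 := hp Pi1Tors.p13 i₁ i₃ (AlgHom.ext fun b => by simp [Pi1Tors.p13, i₁])
      (AlgHom.ext fun b => by simp [Pi1Tors.p13, i₃])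
    have h1 : P Pi1Tors.p13 = P Pi1Tors.p23 * P Pi1Tors.p12 := by
      refine gm_injective _ ((hex _).1 ?_)
      rw [gm_mul]
      change f.hom.app _ _ = f.hom.app _ (_ + _)
      rw [map_add, e12, e23, e13]
      abel
    refine (val_id_bijective j (R := B ⊗[A] (B ⊗[A] B))).1 ?_
    rw [map_mul]
    have key : ∀ ψ : B ⊗[A] B →ₐ[A] B ⊗[A] (B ⊗[A] B),
        val j (𝟙 (et j (B ⊗[A] (B ⊗[A] B)))) (ψ (u : B ⊗[A] B)) = (P ψ).1 := fun ψ => by
      rw [← val_etMap, Category.id_comp]
      rfl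
    rw [key, key, key, h1]
    rfl
  obtain ⟨f₀, hf₀, m, n, hm, hn⟩ := Groth.Agent.S6005.exists_unit_solution _ u.isUnit hc x
  -- over the localization
  haveI hD : Algebra.Etale A (Localization.Away f₀) := Algebra.Etale.of_isLocalizationAway f₀
  let C := Localization.Away f₀ ⊗[A] B
  haveI : Algebra.Etale A C := Algebra.Etale.comp A (Localization.Away f₀) C
  let inR : B →ₐ[A] C := Algebra.TensorProduct.includeRight
  let h : et j C ⟶ et j (Localization.Away f₀) :=
    etMap j (IsScalarTower.toAlgHom A (Localization.Away f₀) C)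
  have hμ : IsUnit (inR m) := by
    refine isUnit_of_mul_isUnit_right (x := inR n) ?_
    rw [← map_mul, hn, AlgHom.commutes, IsScalarTower.algebraMap_apply A (Localization.Away f₀) C]
    exact (IsLocalization.Away.algebraMap_isUnit (S := Localization.Away f₀) f₀).map _
  let s' : I.obj.obj (op (et j C)) := r (etMap j inR) +
    f.hom.app _ (gm _ (Units.map (val j (𝟙 (et j C))).toMonoidHom hμ.unit))
  have hsing : ∀ F : EtCoh.Ab X, Presieve.IsSheafFor (F.obj ⋙ forget AddCommGrpCat) (Presieve.singleton h) := by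
    intro F
    haveI : IsAffine (et j C).left := inferInstanceAs (IsAffine (Spec (CommRingCat.of C)))
    haveI : IsAffine (et j (Localization.Away f₀)).left :=
      inferInstanceAs (IsAffine (Spec (CommRingCat.of (Localization.Away f₀))))
    haveI : Surjective h.left := ⟨fun p =>
      PrimeSpectrum.comap_surjective_of_faithfullyFlat (A := Localization.Away f₀) (B := C) p⟩
    exact ((AffCrit.isSheaf_iff _).1 ((isSheaf_iff_isSheaf_of_type _ _).1
      ((sheafCompose X.smallEtaleTopology (forget AddCommGrpCat.{u + 1})).obj F).2)).2 _ _ h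
  obtain ⟨y, hy, -⟩ := (Presieve.isSheafFor_singleton.1 (hsing I)) s' (fun {T} g₁ g₂ e => by
    change I.obj.map g₁.op s' = I.obj.map g₂.op s'
    have hpair : (g₁ ≫ etMap j inR) ≫ etMap j (Algebra.ofId A B) =
        (g₂ ≫ etMap j inR) ≫ etMap j (Algebra.ofId A B) := by
      have e1 : etMap j inR ≫ etMap j (Algebra.ofId A B) =
          h ≫ etMap j (Algebra.ofId A (Localization.Away f₀)) := by
        rw [etMap_comp, etMap_comp]
        exact congrArg (etMap j) (Subsingleton.elim _ _)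
      rw [Category.assoc, Category.assoc, e1, ← Category.assoc, e, Category.assoc]
    obtain ⟨z, hz₁, hz₂⟩ := exists_pair j _ _ hpair
    have hu := hw z
    simp only [p₁, p₂, hz₁, hz₂] at hu
    have hval : ∀ (k : T ⟶ et j C), I.obj.map k.op s' =
        r (k ≫ etMap j inR) + f.hom.app _ (gm T (Units.map (val j k).toMonoidHom hμ.unit)) := fun k => by
      rw [map_add, hrmap, ← NatTrans.naturality_apply f.hom, gm_val]
    rw [hval, hval]
    have hmul : Units.map (val j z).toMonoidHom u * Units.map (val j g₁).toMonoidHom hμ.unit =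
        Units.map (val j g₂).toMonoidHom hμ.unit := by
      ext
      change val j z (u : B ⊗[A] B) * val j g₁ (inR m) = val j g₂ (inR m)
      rw [← val_etMap, ← val_etMap, ← hz₁, ← hz₂, val_etMap, val_etMap, ← map_mul]
      exact congrArg (val j z) hm
    rw [← hmul, gm_mul]
    change _ = _ + f.hom.app _ (_ + _)
    rw [map_add, hu]
    abel)
  refine ⟨f₀, hf₀, hD, y, ((Presieve.isSheafFor_singleton.1 (hsing Q))
    (g.hom.app _ s') (fun g₁ g₂ e => ?_)).unique ?_ ?_⟩
  · change Q.obj.map g₁.op _ = Q.obj.map g₂.op _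
    change I.obj.map h.op y = s' at hy
    rw [← hy, NatTrans.naturality_apply g.hom, ← Functor.map_comp_apply, ← Functor.map_comp_apply,
      ← op_comp, ← op_comp, e]
  · change I.obj.map h.op y = s' at hy
    change Q.obj.map h.op _ = _
    rw [← NatTrans.naturality_apply g.hom, hy]
  · change Q.obj.map h.op _ = _
    rw [map_add, hgr, (hex _).2.2, add_zero, ← Functor.map_comp_apply, ← op_comp, etMap_comp, etMap_comp]
    exact congrArg (fun ψ => Q.obj.map (etMap j ψ).op q) (Subsingleton.elim _ _)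

end Main

end Groth.EtaleBase.GmPic
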