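import Groth.Agent.EtaleBase.GmPic.Field
import Groth.Prelude.Def_EtLim

/-!
Low degree cohomology of direct images, and the skyscraper of `𝔾ₘ` at a point.
-/

set_option autoImplicit false

universe u

open CategoryTheory CategoryTheory.Limits CategoryTheory.Abelian AlgebraicGeometry Opposite

namespace Groth.EtaleBase.GmPic

variable {X Y : Scheme.{u}} (v : Y ⟶ X) [PreservesFiniteLimits (EtCoh.pull v)]

/-- The adjunct of a global section of a direct image. -/
noncomputable def adjct (F : EtCoh.Ab Y) (z : EtCoh.const X ℤ ⟶ (EtCoh.push v).obj F) :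
    EtCoh.const Y ℤ ⟶ F :=
  (EtCore.pullConst v ℤ).inv ≫ ((EtCoh.pullPushAdj v).homEquiv _ _).symm z

lemma adjct_bijective (F : EtCoh.Ab Y) : Function.Bijective (adjct v F) := by
  constructor
  · intro a b h
    exact ((EtCoh.pullPushAdj v).homEquiv _ _).symm.injective ((cancel_epi (EtCore.pullConst v ℤ).inv).1 h)
  · intro y
    refine ⟨(EtCoh.pullPushAdj v).homEquiv _ _ ((EtCore.pullConst v ℤ).hom ≫ y), ?_⟩
    simp [adjct]

lemma adjct_comp {F F' : EtCoh.Ab Y} (φ : F ⟶ F') (z : EtCoh.const X ℤ ⟶ (EtCoh.push v).obj F) :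
    adjct v F' (z ≫ (EtCoh.push v).map φ) = adjct v F z ≫ φ := by
  simp [adjct, Adjunction.homEquiv_naturality_right_symm]

/-- `HofPush` of a connecting class. -/
theorem HofPush_delta (S : ShortComplex (EtCoh.Ab Y)) (hS : S.ShortExact) {K : EtCoh.Ab X}
    (p : (EtCoh.push v).obj S.X₂ ⟶ K) (ι : K ⟶ (EtCoh.push v).obj S.X₃)
    (hι : p ≫ ι = (EtCoh.push v).map S.g) (w : (EtCoh.push v).map S.f ≫ p = 0)
    (hT : (ShortComplex.mk ((EtCoh.push v).map S.f) p w).ShortExact) (n : ℕ)
    (e : EtCoh.H X K n) :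
    EtLim.HofPush v S.X₁ (n + 1) (Ext.comp e hT.extClass rfl) =
      Ext.comp (EtLim.HofPush v S.X₃ n (e.comp (Ext.mk₀ ι) (add_zero n))) hS.extClass rfl := by
  let P := EtCoh.push v
  let L := EtCoh.pull v
  let adj := EtCoh.pullPushAdj v
  let T := ShortComplex.mk (P.map S.f) p w
  let φ : T.map L ⟶ S :=
    { τ₁ := adj.counit.app S.X₁
      τ₂ := adj.counit.app S.X₂
      τ₃ := L.map ι ≫ adj.counit.app S.X₃
      comm₁₂ := (adj.counit_naturality S.f).symm
      comm₂₃ := by
        change adj.counit.app S.X₂ ≫ S.g = L.map p ≫ L.map ι ≫ adj.counit.app S.X₃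
        rw [← Category.assoc, ← Functor.map_comp, hι]
        exact (adj.counit_naturality S.g).symm }
  have key := ShortComplex.ShortExact.extClass_naturality (hT.map_of_exact L) hS φ
  have hR : EtLim.HofPush v S.X₃ n (e.comp (Ext.mk₀ ι) (add_zero n)) =
      ((Ext.mk₀ (EtCore.pullConst v ℤ).inv).comp (e.mapExactFunctor L) (zero_add n)).comp
        (Ext.mk₀ φ.τ₃) (add_zero n) := by
    change ((Ext.mk₀ (EtCore.pullConst v ℤ).inv).comp ((e.comp (Ext.mk₀ ι) (add_zero n)).mapExactFunctor L)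
        (zero_add n)).comp (Ext.mk₀ (adj.counit.app S.X₃)) (add_zero n) = _
    rw [Ext.mapExactFunctor_comp L e (Ext.mk₀ ι) (add_zero n), Ext.mapExactFunctor_mk₀,
      ← Ext.comp_assoc_of_third_deg_zero, Ext.comp_assoc_of_third_deg_zero, Ext.mk₀_comp_mk₀]
    simp only [Ext.comp_assoc_of_third_deg_zero]
    rfl
  rw [hR]
  change ((Ext.mk₀ (EtCore.pullConst v ℤ).inv).comp ((e.comp hT.extClass rfl).mapExactFunctor L)
    (zero_add (n + 1))).comp (Ext.mk₀ (adj.counit.app S.X₁)) (add_zero (n + 1)) = _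
  rw [ExtAdj.mapExt_comp_extClass L hT e]
  exact (congrArg (fun z => Ext.comp z (Ext.mk₀ φ.τ₁) (add_zero (n + 1)))
    (ExtAdj.pre_assoc _ _ _).symm).trans (ExtAdj.step _ _ _ φ.τ₃ _ key)

/-- The restriction map in degree one is injective. -/
theorem HofPush_one_injective (F : EtCoh.Ab Y) : Function.Injective (EtLim.HofPush v F 1) := by
  refine (injective_iff_map_eq_zero _).2 fun c hc => ?_
  let P := EtCoh.push v
  let f := Injective.ι F
  let g := cokernel.π f
  have hS : (ShortComplex.mk f g (cokernel.condition f)).ShortExact :=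
    { exact := ShortComplex.exact_of_g_is_cokernel _ (cokernelIsCokernel f) }
  haveI : PreservesLimitsOfSize.{0, 0} P := (EtCoh.pullPushAdj v).rightAdjoint_preservesLimits
  haveI : PreservesFiniteLimits P := PreservesLimitsOfSize.preservesFiniteLimits _
  haveI : Mono (P.map f) := inferInstance
  haveI : P.PreservesZeroMorphisms := inferInstance
  let p := Limits.factorThruImage (P.map g)
  let ι := Limits.image.ι (P.map g)
  have hι : p ≫ ι = P.map g := Limits.image.fac _
  have w : P.map f ≫ p = 0 := by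
    rw [← cancel_mono ι, Category.assoc, hι, zero_comp, ← P.map_comp, cokernel.condition, P.map_zero]
  have hT : (ShortComplex.mk (P.map f) p w).ShortExact :=
    { exact := by
        have h1 := hS.exact.map_of_mono_of_preservesKernel P hS.mono_f inferInstance
        let e : ShortComplex.mk (P.map f) p w ⟶ (ShortComplex.mk f g (cokernel.condition f)).map P :=
          { τ₁ := 𝟙 _, τ₂ := 𝟙 _, τ₃ := ι
            comm₁₂ := (Category.id_comp _).trans (Category.comp_id _).symm
            comm₂₃ := (Category.id_comp _).trans hι.symm }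
        haveI : Epi e.τ₁ := inferInstanceAs (Epi (𝟙 _))
        haveI : IsIso e.τ₂ := inferInstanceAs (IsIso (𝟙 _))
        haveI : Mono e.τ₃ := inferInstanceAs (Mono ι)
        exact (ShortComplex.exact_iff_of_epi_of_isIso_of_mono e).2 h1 }
  have h0 : c.comp (Ext.mk₀ (P.map f)) (add_zero 1) = 0 :=
    (InjCoh.H_injective (P.obj (Injective.under F)) 1 le_rfl).elim _ _
  obtain ⟨x, rfl⟩ := Ext.covariant_sequence_exact₁ _ hT c h0 (zero_add 1)
  rw [HofPush_delta v _ hS p ι hι w hT 0 x] at hc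
  obtain ⟨y, hy⟩ := Ext.covariant_sequence_exact₃ _ hS _ (zero_add 1) hc
  obtain ⟨y, rfl⟩ := (Ext.mk₀_bijective _ _).2 y
  obtain ⟨x, rfl⟩ := (Ext.mk₀_bijective _ _).2 x
  obtain ⟨w', hw'⟩ := (adjct_bijective v _).2 y
  have hz : w' ≫ p = x := by
    refine (cancel_mono ι).1 ((adjct_bijective v _).1 ?_)
    rw [Category.assoc, hι, adjct_comp, hw']
    refine (Ext.mk₀_bijective _ _).1 ?_
    rw [← Ext.mk₀_comp_mk₀, hy]
    change ((Ext.mk₀ (EtCore.pullConst v ℤ).inv).comp
      (((Ext.mk₀ x).comp (Ext.mk₀ ι) (add_zero 0)).mapExactFunctor (EtCoh.pull v)) (zero_add 0)).comp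
        (Ext.mk₀ ((EtCoh.pullPushAdj v).counit.app _)) (add_zero 0) = _
    rw [Ext.mk₀_comp_mk₀, Ext.mapExactFunctor_mk₀, Ext.mk₀_comp_mk₀, Ext.mk₀_comp_mk₀]
    refine congrArg Ext.mk₀ ?_
    rw [adjct, Adjunction.homEquiv_counit, Category.assoc]
  rw [← hz, ← Ext.mk₀_comp_mk₀_assoc, hT.comp_extClass, Ext.comp_zero]

section Sky

variable {K : Type u} [Field K] (i : Spec (CommRingCat.of K) ⟶ X) [PreservesFiniteLimits (EtCoh.pull i)]

/-- The skyscraper of `𝔾ₘ`: vanishing in degree one and injectivity in degree two. -/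
theorem push_Gm_of_field :
    Subsingleton (EtCoh.H X ((EtCoh.push i).obj (EtCoh.Gm (Spec (CommRingCat.of K)))) 1) ∧
      Function.Injective (EtLim.HofPush i (EtCoh.Gm (Spec (CommRingCat.of K))) 2) := by
  let P := EtCoh.push i
  let f := Injective.ι (EtCoh.Gm (Spec (CommRingCat.of K)))
  let g := cokernel.π f
  have hS : (ShortComplex.mk f g (cokernel.condition f)).ShortExact :=
    { exact := ShortComplex.exact_of_g_is_cokernel _ (cokernelIsCokernel f) }
  haveI : PreservesLimitsOfSize.{0, 0} P := (EtCoh.pullPushAdj i).rightAdjoint_preservesLimits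
  haveI : PreservesFiniteLimits P := PreservesLimitsOfSize.preservesFiniteLimits _
  haveI : P.PreservesZeroMorphisms := inferInstance
  have hsurj := surjective_app_of_field f g (cokernel.condition f) hS
  haveI hepi : Epi (P.map g) :=
    (Sheaf.isLocallySurjective_iff_epi' (A := AddCommGrpCat.{u + 1}) _).1
      (Presheaf.isLocallySurjective_of_surjective X.smallEtaleTopology (P.map g).hom
        fun T => hsurj ((EtCoh.bc i).obj T.unop))
  have w : P.map f ≫ P.map g = 0 := by rw [← P.map_comp, cokernel.condition, P.map_zero]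
  have hT : (ShortComplex.mk (P.map f) (P.map g) w).ShortExact :=
    { exact := hS.exact.map_of_mono_of_preservesKernel P hS.mono_f inferInstance
      mono_f := inferInstanceAs (Mono (P.map f)) }
  have hv0 : ∀ n : ℕ, ∀ c : EtCoh.H X (P.obj (EtCoh.Gm (Spec (CommRingCat.of K)))) (n + 1),
      c.comp (Ext.mk₀ (P.map f)) (add_zero (n + 1)) = 0 := fun n c =>
    (InjCoh.H_injective (P.obj (Injective.under (EtCoh.Gm (Spec (CommRingCat.of K))))) (n + 1)
      (by omega)).elim _ _
  constructor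
  · refine subsingleton_of_forall_eq 0 fun c => ?_
    obtain ⟨x, rfl⟩ := Ext.covariant_sequence_exact₁ _ hT c (hv0 0 c) (zero_add 1)
    obtain ⟨x, rfl⟩ := (Ext.mk₀_bijective _ _).2 x
    obtain ⟨y, hy⟩ := hsurj ((EtCoh.bc i).obj (EtCoh.top X)) (EtLimit.Resn.ev (P.obj _) x)
    have hx : (EtLimit.Resn.ev (P.obj _)).symm y ≫ P.map g = x := by
      refine (EtLimit.Resn.ev _).injective ?_
      rw [EtLimit.Resn.ev_comp, AddEquiv.apply_symm_apply]
      exact hy
    rw [← hx, ← Ext.mk₀_comp_mk₀_assoc, hT.comp_extClass, Ext.comp_zero]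
  · refine (injective_iff_map_eq_zero _).2 fun c hc => ?_
    obtain ⟨x, rfl⟩ := Ext.covariant_sequence_exact₁ _ hT c (hv0 1 c) (rfl : 1 + 1 = 2)
    rw [HofPush_delta i _ hS (P.map g) (𝟙 _) (Category.comp_id _) w hT 1 x] at hc
    obtain ⟨y, hy⟩ := Ext.covariant_sequence_exact₃ _ hS _ rfl hc
    have hy0 : y = 0 :=
      (InjCoh.H_injective (Injective.under (EtCoh.Gm (Spec (CommRingCat.of K)))) 1 le_rfl).elim _ _
    rw [hy0, Ext.zero_comp, Ext.comp_mk₀_id] at hy
    rw [(injective_iff_map_eq_zero _).1 (HofPush_one_injective i _) x hy.symm, Ext.zero_comp]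

end Sky

end Groth.EtaleBase.GmPic
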