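import Groth.Agent.EtaleBase.GmPic.Class
import Groth.Agent.DescentBase.DimEtale

/-!
Over a field, quotients of an étale sheaf by `𝔾ₘ` are computed sectionwise.
-/

set_option autoImplicit false

universe u

open CategoryTheory CategoryTheory.Limits AlgebraicGeometry Opposite

namespace Groth.EtaleBase.GmPic

variable {X : Scheme.{u}}

/-- A section of a quotient by `𝔾ₘ` over an étale scheme lifts on a neighbourhood of any point. -/
theorem exists_open_lift_at {I Q : EtCoh.Ab X} (f : EtCoh.Gm X ⟶ I) (g : I ⟶ Q) (w : f ≫ g = 0)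
    (hS : (ShortComplex.mk f g w).ShortExact) (T : X.Etale) (q : Q.obj.obj (op T)) (x : T.left) :
    ∃ (U : T.left.Opens) (_ : x ∈ U) (y : I.obj.obj (op (openObj T U))),
      g.hom.app _ y = Q.obj.map (openHom T U).op q := by
  obtain ⟨_, ⟨W, hW, rfl⟩, hxW, -⟩ := T.left.isBasis_affineOpens.exists_subset_of_mem_open
    (Set.mem_univ x) isOpen_univ
  haveI : Algebra.Etale Γ(T.left, W) Γ(T.left, W) := inferInstance
  haveI : AlgebraicGeometry.Etale (hW.fromSpec ≫ T.hom) :=
    MorphismProperty.comp_mem (@AlgebraicGeometry.Etale) hW.fromSpec T.hom inferInstance T.prop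
  let a : et (hW.fromSpec ≫ T.hom) Γ(T.left, W) ⟶ T := MorphismProperty.Over.homMk hW.fromSpec (by
    change hW.fromSpec ≫ T.hom = Spec.map _ ≫ hW.fromSpec ≫ T.hom
    rw [Algebra.algebraMap_self, CommRingCat.ofHom_id, Spec.map_id]
    exact (Category.id_comp _).symm)
  obtain ⟨f₀, hf₀, _, y, hy⟩ := exists_lift (hW.fromSpec ≫ T.hom) f g w hS
    (Q.obj.map a.op q) (hW.primeIdealOf ⟨x, hxW⟩)
  let D := et (hW.fromSpec ≫ T.hom) (Localization.Away f₀)
  let d : Spec (CommRingCat.of (Localization.Away f₀)) ⟶ T.left :=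
    Spec.map (CommRingCat.ofHom (algebraMap Γ(T.left, W) (Localization.Away f₀))) ≫ hW.fromSpec
  haveI hloc : IsOpenImmersion d := by
    haveI : IsOpenImmersion (Spec.map (CommRingCat.ofHom
        (algebraMap Γ(T.left, W) (Localization.Away f₀)))) := IsOpenImmersion.of_isLocalization f₀
    exact MorphismProperty.comp_mem (@IsOpenImmersion) _ hW.fromSpec ‹_› inferInstance
  let e : openObj T d.opensRange ⟶ D :=
    MorphismProperty.Over.homMk d.isoOpensRange.inv (by
      change d.isoOpensRange.inv ≫ Spec.map _ ≫ hW.fromSpec ≫ T.hom = d.opensRange.ι ≫ T.hom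
      refine Eq.trans ?_ (congrArg (· ≫ T.hom) d.isoOpensRange_inv_comp)
      simp only [d, Category.assoc])
  refine ⟨d.opensRange, ?_, I.obj.map e.op y, ?_⟩
  · have hmem : hW.primeIdealOf ⟨x, hxW⟩ ∈ (PrimeSpectrum.basicOpen f₀ : Set (PrimeSpectrum Γ(T.left, W))) := hf₀
    rw [← PrimeSpectrum.localization_away_comap_range (Localization.Away f₀) f₀] at hmem
    obtain ⟨p, hp⟩ := hmem
    refine ⟨p, ?_⟩
    refine (Scheme.Hom.comp_apply (Spec.map (CommRingCat.ofHom
      (algebraMap Γ(T.left, W) (Localization.Away f₀)))) hW.fromSpec _).trans ?_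
    exact (congrArg hW.fromSpec.base hp).trans (hW.fromSpec_primeIdealOf ⟨x, hxW⟩)
  · refine (NatTrans.naturality_apply g.hom _ y).trans ?_
    refine (congrArg _ hy).trans ?_
    refine (Functor.map_comp_apply Q.obj _ _ _).symm.trans ?_
    refine (Functor.map_comp_apply Q.obj _ _ _).symm.trans ?_
    refine congrArg (fun b => Q.obj.map b q) (Quiver.Hom.unop_inj (MorphismProperty.Over.Hom.ext ?_))
    change (d.isoOpensRange.inv ≫ Spec.map _) ≫ hW.fromSpec = d.opensRange.ι
    refine Eq.trans ?_ d.isoOpensRange_inv_comp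
    rw [Category.assoc]
    rfl

variable {K : Type u} [Field K]

set_option backward.isDefEq.respectTransparency.types false in
/-- Over a field a sheaf quotient by `𝔾ₘ` is surjective on all sections. -/
theorem surjective_app_of_field {I Q : EtCoh.Ab (Spec (CommRingCat.of K))}
    (f : EtCoh.Gm (Spec (CommRingCat.of K)) ⟶ I) (g : I ⟶ Q) (w : f ≫ g = 0)
    (hS : (ShortComplex.mk f g w).ShortExact) (T : (Spec (CommRingCat.of K)).Etale) :
    Function.Surjective (g.hom.app (op T)) := by
  intro q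
  haveI : AlgebraicGeometry.Etale (T.hom : T.left ⟶ Spec (CommRingCat.of K)) := T.prop
  haveI : LocallyQuasiFinite (T.hom : T.left ⟶ Spec (CommRingCat.of K)) :=
    Groth.DescentBase.locallyQuasiFinite_of_etale _
  have hdisc : DiscreteTopology T.left := by
    obtain ⟨p⟩ : Nonempty ↥(Spec (CommRingCat.of K)) := inferInstance
    have h := (T.hom : T.left ⟶ Spec (CommRingCat.of K)).isDiscrete_preimage_singleton p
    rw [show (T.hom : T.left ⟶ Spec (CommRingCat.of K)) ⁻¹' {p} = Set.univ from
      Set.eq_univ_of_forall fun a => Subsingleton.elim (α := PrimeSpectrum K) _ _] at h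
    exact isDiscrete_univ_iff.1 h
  let W : T.left → T.left.Opens := fun z => ⟨{z}, isOpen_discrete _⟩
  have hd : ∀ a b, a ≠ b → Disjoint (W a) (W b) := fun a b hab => by
    rw [disjoint_iff]
    refine eq_bot_iff.2 fun z ⟨h1, h2⟩ => hab ?_
    exact (Set.mem_singleton_iff.1 h1).symm.trans (Set.mem_singleton_iff.1 h2)
  have hsup : ⨆ a, W a = ⊤ := top_unique fun z _ =>
    TopologicalSpace.Opens.mem_iSup.2 ⟨z, rfl⟩
  choose U hU y hy using fun z => exists_open_lift_at f g w hS T q z
  have hle : ∀ z, W z ≤ U z := fun z a (ha : a ∈ ({z} : Set T.left)) => by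
    rw [Set.mem_singleton_iff.1 ha]; exact hU z
  let c : ∀ z, openObj T (W z) ⟶ openObj T (U z) := fun z =>
    MorphismProperty.Over.homMk (T.left.homOfLE (hle z))
      ((Category.assoc _ _ _).symm.trans (congrArg (· ≫ T.hom) (T.left.homOfLE_ι (hle z))))
  have hc : ∀ z, c z ≫ openHom T (U z) = openHom T (W z) := fun z =>
    MorphismProperty.Over.Hom.ext (T.left.homOfLE_ι (hle z))
  obtain ⟨s, hs⟩ := exists_glue_disjoint T W hd hsup I fun z => I.obj.map (c z).op (y z)
  refine ⟨s, ext_disjoint T W hd hsup Q _ _ fun z => ?_⟩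
  rw [← NatTrans.naturality_apply g.hom, hs, NatTrans.naturality_apply g.hom, hy,
    ← ConcreteCategory.comp_apply, ← Q.obj.map_comp, ← op_comp, hc]

end Groth.EtaleBase.GmPic
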