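import Groth.Agent.EtaleBase.AffineCriterion
import Groth.Prelude.Def_EtGm
import Mathlib.AlgebraicGeometry.Morphisms.Etale
import Mathlib.AlgebraicGeometry.Limits
import Mathlib.RingTheory.Flat.FaithfullyFlat.Algebra

/-!
Locally surjective maps of étale sheaves lift sections on a single faithfully flat étale algebra;
affine étale objects attached to algebras.
-/

set_option autoImplicit false

universe u

open CategoryTheory CategoryTheory.Limits AlgebraicGeometry Opposite

namespace Groth.EtaleBase.GmPic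

variable {X : Scheme.{u}}

set_option backward.isDefEq.respectTransparency.types false in
/-- A section lifts on one affine étale cover of an affine étale scheme. -/
lemma exists_affine_lift {F G : EtCoh.Ab X} (φ : F ⟶ G) (hφ : Sheaf.IsLocallySurjective φ)
    (U : X.Etale) [IsAffine U.left] (σ : G.obj.obj (op U)) :
    ∃ (V : X.Etale) (_ : IsAffine V.left) (f : V ⟶ U) (_ : Surjective f.left) (τ : F.obj.obj (op V)),
      φ.hom.app (op V) τ = G.obj.map f.op σ := by
  classical
  have hS : Presheaf.imageSieve φ.hom (U := U) σ ∈ X.smallEtaleTopology U := hφ.imageSieve_mem _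
  have h : ∀ x : U.left, ∃ (Y : X.Etale) (g : Y ⟶ U), IsAffine Y.left ∧
      Presheaf.imageSieve φ.hom (U := U) σ g ∧ x ∈ Set.range g.left.base := by
    intro x
    obtain ⟨Y, g, y, hg, hy⟩ := (mem_topology_iff _).1 hS x
    obtain ⟨_, ⟨W, hW, rfl⟩, hyW, -⟩ := Y.left.isBasis_affineOpens.exists_subset_of_mem_open
      (Set.mem_univ y) isOpen_univ
    exact ⟨openObj Y W, openHom Y W ≫ g, hW,
      (Presheaf.imageSieve φ.hom σ).downward_closed hg _, ⟨y, hyW⟩, hy⟩
  choose Y g hY hg hmem using h
  obtain ⟨t, ht⟩ := IsCompact.elim_finite_subcover (isCompact_univ (X := U.left))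
    (fun x => Set.range (g x).left.base) (fun x => (isOpenMap_left (g x)).isOpen_range)
    (fun x _ => Set.mem_iUnion.2 ⟨x, hmem x⟩)
  have : AlgebraicGeometry.Etale (Sigma.desc fun i : t => (Y i.1).hom) :=
    IsZariskiLocalAtSource.sigmaDesc (P := @AlgebraicGeometry.Etale) fun i => (Y i.1).prop
  let V : X.Etale := Scheme.Etale.mk (Sigma.desc fun i : t => (Y i.1).hom)
  have : ∀ i : t, IsAffine (Y i.1).left := fun i => hY i.1
  haveI hV : IsAffine V.left := inferInstanceAs (IsAffine (∐ fun i : t => (Y i.1).left))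
  let ι : ∀ i : t, (Y i.1).left ⟶ ∐ fun i : t => (Y i.1).left :=
    Sigma.ι (fun i : t => (Y i.1).left)
  let κ : ∀ i : t, Y i.1 ⟶ V := fun i => MorphismProperty.Over.homMk (ι i) (Sigma.ι_desc _ _)
  let f : V ⟶ U := MorphismProperty.Over.homMk (Sigma.desc fun i : t => (g i.1).left)
    (Sigma.hom_ext _ _ fun i => by
      show _ ≫ Sigma.desc _ ≫ U.hom = _ ≫ Sigma.desc _
      rw [← Category.assoc, Sigma.ι_desc, Sigma.ι_desc]
      exact Over.w (g i.1).hom)
  have hκf : ∀ i, κ i ≫ f = g i.1 := fun i =>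
    MorphismProperty.Over.Hom.ext (Sigma.ι_desc _ _)
  have hsurj : Surjective f.left := ⟨fun x => by
    obtain ⟨i, hi⟩ := Set.mem_iUnion.1 (ht (Set.mem_univ x))
    obtain ⟨hit, y, hy⟩ := Set.mem_iUnion.1 hi
    exact ⟨(κ ⟨i, hit⟩).left.base y,
      (congrArg (fun m : Y i ⟶ U => m.left.base y) (hκf ⟨i, hit⟩)).trans hy⟩⟩
  let W : t → V.left.Opens := fun i => (ι i).opensRange
  have hW : ∀ a b, a ≠ b → Disjoint (W a) (W b) := fun a b hab =>
    disjoint_opensRange_sigmaι (fun i : t => (Y i.1).left) a b hab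
  have hsup : ⨆ a, W a = ⊤ := (sigmaOpenCover fun i : t => (Y i.1).left).iSup_opensRange
  let q : ∀ i : t, openObj V (W i) ⟶ Y i.1 := fun i =>
    MorphismProperty.Over.homMk (ι i).isoOpensRange.inv (by
      show _ ≫ (Y i.1).hom = (W i).ι ≫ V.hom
      have h1 : (ι i).isoOpensRange.inv ≫ ι i = (W i).ι := (ι i).isoOpensRange_inv_comp
      exact (congrArg (_ ≫ ·) (Sigma.ι_desc (fun i : t => (Y i.1).hom) i).symm).trans
        ((Category.assoc _ _ _).symm.trans (congrArg (· ≫ V.hom) h1)))
  have hq : ∀ i, q i ≫ g i.1 = openHom V (W i) ≫ f := fun i => by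
    rw [← hκf i, ← Category.assoc]
    congr 1
    exact MorphismProperty.Over.Hom.ext (ι i).isoOpensRange_inv_comp
  choose τ hτ using fun i : t => hg i.1
  obtain ⟨s, hs⟩ := exists_glue_disjoint V W hW hsup F fun i => F.obj.map (q i).op (τ i)
  refine ⟨V, hV, f, hsurj, s, ext_disjoint V W hW hsup G _ _ fun i => ?_⟩
  rw [← NatTrans.naturality_apply φ.hom, hs, NatTrans.naturality_apply φ.hom, hτ,
    ← ConcreteCategory.comp_apply, ← G.obj.map_comp, ← op_comp, hq, op_comp, G.obj.map_comp,
    ConcreteCategory.comp_apply]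

section Et

variable {A : Type u} [CommRing A] (j : Spec (CommRingCat.of A) ⟶ X) [AlgebraicGeometry.Etale j]
  (R : Type u) [CommRing R] [Algebra A R] [Algebra.Etale A R]

instance etale_specMap : AlgebraicGeometry.Etale (Spec.map (CommRingCat.ofHom (algebraMap A R))) :=
  (HasRingHomProperty.Spec_iff (P := @AlgebraicGeometry.Etale)).2
    (RingHom.etale_algebraMap.2 inferInstance)

/-- The spectrum of an étale algebra as an étale scheme. -/
noncomputable abbrev et : X.Etale :=
  Scheme.Etale.mk (Spec.map (CommRingCat.ofHom (algebraMap A R)) ≫ j)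

variable {R} {R' R'' : Type u} [CommRing R'] [Algebra A R'] [Algebra.Etale A R']
  [CommRing R''] [Algebra A R''] [Algebra.Etale A R'']

/-- Functoriality of `et`. -/
noncomputable def etMap (ψ : R →ₐ[A] R') : et j R' ⟶ et j R :=
  MorphismProperty.Over.homMk (Spec.map (CommRingCat.ofHom ψ.toRingHom)) (by
    change _ ≫ Spec.map _ ≫ j = Spec.map _ ≫ j
    rw [← Category.assoc, ← Spec.map_comp, ← CommRingCat.ofHom_comp]
    exact congrArg (fun k => Spec.map (CommRingCat.ofHom k) ≫ j) ψ.comp_algebraMap)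

omit [Algebra.Etale A R] in
lemma etMap_left [Algebra.Etale A R] (ψ : R →ₐ[A] R') :
    (etMap j ψ).left = Spec.map (CommRingCat.ofHom ψ.toRingHom) := rfl

theorem etMap_comp (ψ : R →ₐ[A] R') (ψ' : R' →ₐ[A] R'') :
    etMap j ψ' ≫ etMap j ψ = etMap j (ψ'.comp ψ) := by
  refine MorphismProperty.Over.Hom.ext ?_
  change Spec.map _ ≫ Spec.map _ = Spec.map _
  rw [← Spec.map_comp, ← CommRingCat.ofHom_comp]
  rfl

/-- The ring map of a point of `et j R`. -/
noncomputable def val {T : X.Etale} (w : T ⟶ et j R) : R →+* Γ(T.left, ⊤) :=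
  w.left.appTop.hom.comp (Scheme.ΓSpecIso (CommRingCat.of R)).inv.hom

theorem val_comp {T T' : X.Etale} (h : T' ⟶ T) (w : T ⟶ et j R) (r : R) :
    val j (h ≫ w) r = h.left.appTop (val j w r) := rfl

theorem val_etMap (ψ : R →ₐ[A] R') {T : X.Etale} (w : T ⟶ et j R') (r : R) :
    val j (w ≫ etMap j ψ) r = val j w (ψ r) := by
  change w.left.appTop ((Spec.map (CommRingCat.ofHom ψ.toRingHom)).appTop _) = _
  exact congrArg w.left.appTop (RingHom.congr_fun (congrArg CommRingCat.Hom.hom
    (Scheme.ΓSpecIso_inv_naturality (CommRingCat.ofHom ψ.toRingHom))) r).symm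

theorem val_id_bijective : Function.Bijective (val j (𝟙 (et j R))) :=
  (Scheme.ΓSpecIso (CommRingCat.of R)).commRingCatIsoToRingEquiv.symm.bijective

set_option backward.isDefEq.respectTransparency.types false in
/-- Two points of `et j R` with the same image in `et j A` come from `et j (R ⊗ R)`. -/
theorem exists_pair [Algebra.Etale A A] [Algebra.Etale A (TensorProduct A R R)] {T : X.Etale}
    (x y : T ⟶ et j R) (h : x ≫ etMap j (Algebra.ofId A R) = y ≫ etMap j (Algebra.ofId A R)) :
    ∃ w : T ⟶ et j (TensorProduct A R R),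
      w ≫ etMap j (Algebra.TensorProduct.includeLeft : R →ₐ[A] TensorProduct A R R) = x ∧
      w ≫ etMap j (Algebra.TensorProduct.includeRight : R →ₐ[A] TensorProduct A R R) = y := by
  have h' : x.left ≫ Spec.map (CommRingCat.ofHom (algebraMap A R)) =
      y.left ≫ Spec.map (CommRingCat.ofHom (algebraMap A R)) :=
    congrArg (fun m : T ⟶ et j A => m.left) h
  let l : T.left ⟶ Spec (CommRingCat.of (TensorProduct A R R)) :=
    pullback.lift x.left y.left h' ≫ (pullbackSpecIso A R R).hom
  have h1 : l ≫ Spec.map (CommRingCat.ofHom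
      (Algebra.TensorProduct.includeLeft : R →ₐ[A] TensorProduct A R R).toRingHom) = x.left := by
    rw [Category.assoc]
    exact (congrArg (pullback.lift x.left y.left h' ≫ ·) (pullbackSpecIso_hom_fst A R R)).trans
      (pullback.lift_fst _ _ _)
  have h2 : l ≫ Spec.map (CommRingCat.ofHom
      (Algebra.TensorProduct.includeRight : R →ₐ[A] TensorProduct A R R).toRingHom) = y.left := by
    rw [Category.assoc]
    exact (congrArg (pullback.lift x.left y.left h' ≫ ·) (pullbackSpecIso_hom_snd A R R)).trans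
      (pullback.lift_snd _ _ _)
  have hl : l ≫ Spec.map (CommRingCat.ofHom (algebraMap A (TensorProduct A R R))) ≫ j = T.hom := by
    refine Eq.trans ?_ (MorphismProperty.Over.w x)
    change _ = x.left ≫ Spec.map _ ≫ j
    refine Eq.trans ?_ (congrArg (· ≫ _) h1)
    rw [Category.assoc]
    change _ = l ≫ Spec.map _ ≫ Spec.map _ ≫ j
    rw [← Category.assoc (Spec.map (CommRingCat.ofHom _)), ← Spec.map_comp, ← CommRingCat.ofHom_comp]
    exact congrArg (fun k => l ≫ Spec.map (CommRingCat.ofHom k) ≫ j)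
      ((Algebra.TensorProduct.includeLeft : R →ₐ[A] TensorProduct A R R).comp_algebraMap).symm
  exact ⟨MorphismProperty.Over.homMk l hl, MorphismProperty.Over.Hom.ext h1,
    MorphismProperty.Over.Hom.ext h2⟩

set_option backward.isDefEq.respectTransparency.types false in
/-- A section over `et j A` lifts on a faithfully flat étale algebra. -/
theorem exists_algebra_lift [Algebra.Etale A A] {F G : EtCoh.Ab X} (φ : F ⟶ G)
    (hφ : Sheaf.IsLocallySurjective φ) (q : G.obj.obj (op (et j A))) :
    ∃ (B : Type u) (_ : CommRing B) (_ : Algebra A B) (_ : Algebra.Etale A B)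
      (_ : Module.FaithfullyFlat A B) (s : F.obj.obj (op (et j B))),
      φ.hom.app (op (et j B)) s = G.obj.map (etMap j (Algebra.ofId A B)).op q := by
  haveI : IsAffine (et j A).left := inferInstanceAs (IsAffine (Spec (CommRingCat.of A)))
  obtain ⟨V, hV, f, hf, τ, hτ⟩ := exists_affine_lift φ hφ (et j A) q
  let k : Spec Γ(V.left, ⊤) ⟶ Spec (CommRingCat.of A) := V.left.isoSpec.inv ≫ f.left
  letI : Algebra A Γ(V.left, ⊤) := (Spec.preimage k).hom.toAlgebra
  have hk : Spec.map (CommRingCat.ofHom (algebraMap A Γ(V.left, ⊤))) = k := Spec.map_preimage k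
  haveI : AlgebraicGeometry.Etale f.left := inferInstance
  haveI : AlgebraicGeometry.Etale k :=
    MorphismProperty.comp_mem (@AlgebraicGeometry.Etale) V.left.isoSpec.inv f.left inferInstance ‹_›
  haveI hBet : Algebra.Etale A Γ(V.left, ⊤) := RingHom.etale_algebraMap.1
    ((HasRingHomProperty.Spec_iff (P := @AlgebraicGeometry.Etale)).1 (hk.symm ▸ inferInstance))
  haveI : Module.Flat A Γ(V.left, ⊤) := RingHom.flat_algebraMap_iff.1
    ((HasRingHomProperty.Spec_iff (P := @AlgebraicGeometry.Flat)).1 (hk.symm ▸ inferInstance))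
  haveI hBff : Module.FaithfullyFlat A Γ(V.left, ⊤) := by
    refine Module.FaithfullyFlat.of_comap_surjective ?_
    haveI : Surjective k :=
      MorphismProperty.comp_mem (@Surjective) V.left.isoSpec.inv f.left inferInstance hf
    intro p
    obtain ⟨z, hz⟩ := k.surjective p
    exact ⟨z, (congrArg (fun m : Spec Γ(V.left, ⊤) ⟶ Spec (CommRingCat.of A) => m.base z) hk).trans hz⟩
  let e : et j Γ(V.left, ⊤) ⟶ V := MorphismProperty.Over.homMk V.left.isoSpec.inv (by
    show _ ≫ V.hom = Spec.map _ ≫ j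
    rw [hk]
    show _ = (_ ≫ f.left) ≫ j
    rw [Category.assoc]
    refine (congrArg (V.left.isoSpec.inv ≫ ·) (MorphismProperty.Over.w f).symm).trans ?_
    show V.left.isoSpec.inv ≫ f.left ≫ Spec.map _ ≫ j = _
    rw [Algebra.algebraMap_self, CommRingCat.ofHom_id, Spec.map_id]
    exact congrArg (fun m => V.left.isoSpec.inv ≫ f.left ≫ m) (Category.id_comp j))
  have he : e ≫ f = etMap j (Algebra.ofId A Γ(V.left, ⊤)) :=
    MorphismProperty.Over.Hom.ext hk.symm
  refine ⟨Γ(V.left, ⊤), inferInstance, inferInstance, hBet, hBff, F.obj.map e.op τ, ?_⟩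
  rw [← he, NatTrans.naturality_apply φ.hom, hτ, op_comp, G.obj.map_comp, ConcreteCategory.comp_apply]

end Et

end Groth.EtaleBase.GmPic
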