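import Groth.Agent.EtaleBase.InjCoh
import Groth.Agent.EtaleBase.Stalks
import Mathlib.GroupTheory.FreeAbelianGroup

/-!
Étale sheaves on open subsets: gluing, and splitting of Zariski 1-cocycles in an injective sheaf.
-/

set_option autoImplicit false

universe u

open CategoryTheory CategoryTheory.Limits AlgebraicGeometry Opposite TopologicalSpace

namespace Groth.EtaleBase.GmPic

variable {X : Scheme.{u}}

/-- An open as an étale scheme. -/
noncomputable abbrev wet (U : X.Opens) : X.Etale := Scheme.Etale.mk U.ι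

/-- The morphism of an inclusion. -/
noncomputable def wetMap {U V : X.Opens} (h : V ≤ U) : wet V ⟶ wet U :=
  MorphismProperty.Over.homMk (X.homOfLE h) (X.homOfLE_ι h)

lemma hom_wet_eq {T : X.Etale} {U : X.Opens} (a b : T ⟶ wet U) : a = b :=
  MorphismProperty.Over.Hom.ext ((cancel_mono U.ι).1
    ((MorphismProperty.Over.w a).trans (MorphismProperty.Over.w b).symm))

/-- Restriction between opens. -/
noncomputable def resW (F : EtCoh.Ab X) {U V : X.Opens} (h : V ≤ U) :
    F.obj.obj (op (wet U)) →+ F.obj.obj (op (wet V)) :=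
  (F.obj.map (wetMap h).op).hom

lemma resW_resW (F : EtCoh.Ab X) {U V W : X.Opens} (h : W ≤ V) (h' : V ≤ U) (s) :
    resW F h (resW F h' s) = resW F (h.trans h') s := by
  show F.obj.map (wetMap h).op (F.obj.map (wetMap h').op s) = F.obj.map (wetMap _).op s
  rw [← Functor.map_comp_apply, ← op_comp, hom_wet_eq (wetMap h ≫ wetMap h') (wetMap (h.trans h'))]

lemma map_wet (F : EtCoh.Ab X) {U : X.Opens} {T : X.Etale} (a b : T ⟶ wet U) (s) :
    F.obj.map a.op s = F.obj.map b.op s := by rw [hom_wet_eq a b]

lemma resW_app {F G : EtCoh.Ab X} (φ : F ⟶ G) {U V : X.Opens} (h : V ≤ U) (s) :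
    φ.hom.app (op (wet V)) (resW F h s) = resW G h (φ.hom.app (op (wet U)) s) :=
  NatTrans.naturality_apply φ.hom (wetMap h).op s

/-- An étale scheme lies over an open. -/
abbrev Sits (T : X.Etale) (U : X.Opens) : Prop := ∀ z : T.left, (T.hom : T.left ⟶ X) z ∈ U

set_option backward.isDefEq.respectTransparency false in
/-- A map into an open from an étale scheme lying over it. -/
noncomputable def toWet (T : X.Etale) (U : X.Opens) (h : Sits T U) : T ⟶ wet U :=
  MorphismProperty.Over.homMk
    (IsOpenImmersion.lift U.ι (T.hom : T.left ⟶ X) (by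
      rintro _ ⟨z, rfl⟩
      exact (Scheme.Opens.range_ι U).ge (h z)))
    (IsOpenImmersion.lift_fac _ _ _)

lemma range_subset {T T' : X.Etale} (g : T' ⟶ T) {U : X.Opens} (h : Sits T U) : Sits T' U := by
  intro z
  have e : (T'.hom : T'.left ⟶ X) z = (T.hom : T.left ⟶ X) (g.left z) :=
    ((Scheme.Hom.comp_apply _ _ _).symm.trans
      (congrArg (fun m : T'.left ⟶ X => m z) (MorphismProperty.Over.w g))).symm
  exact e ▸ h (g.left z)

lemma range_wet (U : X.Opens) : Sits (wet U) U := fun z => (Scheme.Opens.range_ι U).le ⟨z, rfl⟩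

section Glue

variable (F : EtCoh.Ab X) {ι : Type u} (U : ι → X.Opens) (hU : (⊤ : X.Opens) ≤ ⨆ i, U i)

include hU

set_option backward.isDefEq.respectTransparency.types false in
/-- Sections glue along an open covering. -/
theorem existsUnique_glueW (s : ∀ i, F.obj.obj (op (wet (U i))))
    (h : ∀ i j, resW F (inf_le_left : U i ⊓ U j ≤ U i) (s i) = resW F inf_le_right (s j)) :
    ∃! t : F.obj.obj (op (wet (⊤ : X.Opens))), ∀ i, resW F le_top t = s i := by
  have hcov : Sieve.generate (Presieve.ofArrows _ fun i => wetMap (le_top : U i ≤ ⊤)) ∈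
      X.smallEtaleTopology (wet (⊤ : X.Opens)) := by
    rw [mem_topology_iff]
    intro x
    obtain ⟨i, hi⟩ := Opens.mem_iSup.1 (hU (show (⊤ : X.Opens).ι x ∈ (⊤ : X.Opens) from trivial))
    refine ⟨_, wetMap le_top, ⟨_, hi⟩, Sieve.le_generate _ _ _ (Presieve.ofArrows.mk i), ?_⟩
    refine (⊤ : X.Opens).ι.isOpenEmbedding.injective ?_
    exact (Scheme.Hom.comp_apply _ _ _).symm.trans
      (congrArg (fun m : (U i : Scheme.{u}) ⟶ X => m ⟨_, hi⟩)
        (X.homOfLE_ι (le_top : U i ≤ ⊤)))
  have hF := ((isSheaf_iff_isSheaf_of_type _ _).1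
    ((sheafCompose X.smallEtaleTopology (forget AddCommGrpCat.{u + 1})).obj F).2) _ hcov
  rw [← Presieve.isSheafFor_iff_generate, Presieve.isSheafFor_arrows_iff] at hF
  refine hF s fun i j Z gi gj _ => ?_
  have hr : Sits Z (U i ⊓ U j) :=
    fun x => ⟨range_subset gi (range_wet _) x, range_subset gj (range_wet _) x⟩
  change F.obj.map gi.op (s i) = F.obj.map gj.op (s j)
  rw [map_wet F gi (toWet Z _ hr ≫ wetMap inf_le_left), map_wet F gj (toWet Z _ hr ≫ wetMap inf_le_right),
    op_comp, op_comp, Functor.map_comp_apply, Functor.map_comp_apply]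
  exact congrArg _ (h i j)

theorem exists_glueW (s : ∀ i, F.obj.obj (op (wet (U i))))
    (h : ∀ i j, resW F (inf_le_left : U i ⊓ U j ≤ U i) (s i) = resW F inf_le_right (s j)) :
    ∃ t : F.obj.obj (op (wet (⊤ : X.Opens))), ∀ i, resW F le_top t = s i :=
  (existsUnique_glueW F U hU s h).exists

theorem eqW_of_locally (a b : F.obj.obj (op (wet (⊤ : X.Opens))))
    (h : ∀ i, resW F (le_top : U i ≤ ⊤) a = resW F le_top b) : a = b :=
  (existsUnique_glueW F U hU (fun i => resW F le_top b) fun i j => by
    rw [resW_resW, resW_resW]).unique h fun _ => rfl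

end Glue

section Split

variable (I : EtCoh.Ab X) {ι : Type u} (U : ι → X.Opens)

/-- The members of the family containing the image of an étale scheme. -/
def Mem (T : X.Etale) : Type (u + 1) := ULift.{u + 1} {i : ι // Sits T (U i)}

/-- Functoriality of the members. -/
def memMap {T T' : X.Etale} (g : T' ⟶ T) (i : Mem U T) : Mem U T' :=
  ⟨⟨i.down.1, range_subset g i.down.2⟩⟩

/-- Functoriality of free groups on the members. -/
noncomputable def freeMap {T T' : X.Etale} (g : T' ⟶ T) :
    FreeAbelianGroup (Mem U T) →+ FreeAbelianGroup (Mem U T') :=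
  FreeAbelianGroup.map (memMap U g)

lemma freeMap_id (T : X.Etale) (x : FreeAbelianGroup (Mem U T)) : freeMap U (𝟙 T) x = x := by
  induction x using FreeAbelianGroup.induction_on with
  | zero => simp
  | of i => exact FreeAbelianGroup.map_of_apply _
  | neg i hi => rw [map_neg, hi]
  | add x y hx hy => rw [map_add, hx, hy]

lemma freeMap_comp {T T' T'' : X.Etale} (g : T' ⟶ T) (h : T'' ⟶ T') (x : FreeAbelianGroup (Mem U T)) :
    freeMap U (h ≫ g) x = freeMap U h (freeMap U g x) := by
  induction x using FreeAbelianGroup.induction_on with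
  | zero => simp
  | of i => simp only [freeMap, FreeAbelianGroup.map_of_apply]; rfl
  | neg i hi => simp only [map_neg, hi]
  | add x y hx hy => simp only [map_add, hx, hy]

/-- The free abelian presheaf on the members of the family. -/
noncomputable def freeP : X.Etaleᵒᵖ ⥤ AddCommGrpCat.{u + 1} where
  obj T := AddCommGrpCat.of (FreeAbelianGroup (Mem U T.unop))
  map g := AddCommGrpCat.ofHom (freeMap U g.unop)
  map_id T := AddCommGrpCat.hom_ext (AddMonoidHom.ext fun x => freeMap_id U T.unop x)
  map_comp g h := AddCommGrpCat.hom_ext (AddMonoidHom.ext fun x => freeMap_comp U g.unop h.unop x)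

/-- The augmentation. -/
noncomputable def aug (T : X.Etale) : FreeAbelianGroup (Mem U T) →+ ℤ :=
  FreeAbelianGroup.lift fun _ => 1

lemma aug_map {T T' : X.Etale} (g : T' ⟶ T) (x : FreeAbelianGroup (Mem U T)) :
    aug U T' (freeMap U g x) = aug U T x := by
  induction x using FreeAbelianGroup.induction_on with
  | zero => simp
  | of i => simp [freeMap, aug]
  | neg i hi => simp only [map_neg, hi]
  | add x y hx hy => simp only [map_add, hx, hy]

/-- The kernel of the augmentation. -/
noncomputable def diffP : X.Etaleᵒᵖ ⥤ AddCommGrpCat.{u + 1} where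
  obj T := AddCommGrpCat.of (aug U T.unop).ker
  map {T T'} g := AddCommGrpCat.ofHom (((freeMap U g.unop).comp (aug U T.unop).ker.subtype).codRestrict
    (aug U T'.unop).ker fun x => (aug_map U g.unop x.1).trans x.2)
  map_id T := AddCommGrpCat.hom_ext (AddMonoidHom.ext fun x => Subtype.ext (freeMap_id U T.unop x.1))
  map_comp g h := AddCommGrpCat.hom_ext (AddMonoidHom.ext fun x =>
    Subtype.ext (freeMap_comp U g.unop h.unop x.1))

/-- The inclusion. -/
noncomputable def diffIncl : diffP U ⟶ freeP U where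
  app T := AddCommGrpCat.ofHom (aug U T.unop).ker.subtype

/-- A Zariski 1-cocycle in an injective étale sheaf is a coboundary. -/
theorem exists_splitW [Injective I] (a : ∀ i j, I.obj.obj (op (wet (U i ⊓ U j))))
    (ha : ∀ i j k, resW I (inf_le_left : U i ⊓ U j ⊓ U k ≤ U i ⊓ U j) (a i j) +
      resW I (inf_le_inf_right (U k) inf_le_right : U i ⊓ U j ⊓ U k ≤ U j ⊓ U k) (a j k) =
      resW I (inf_le_inf_right (U k) inf_le_left : U i ⊓ U j ⊓ U k ≤ U i ⊓ U k) (a i k)) :
    ∃ t : ∀ i, I.obj.obj (op (wet (U i))), ∀ i j,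
      a i j = resW I inf_le_left (t i) - resW I inf_le_right (t j) := by
  classical
  haveI := InjCoh.injective_presheaf I
  let av : ∀ {T : X.Etale}, Mem U T → Mem U T → I.obj.obj (op T) := fun {T} i j =>
    I.obj.map (toWet T (U i.down.1 ⊓ U j.down.1) fun x => ⟨i.down.2 x, j.down.2 x⟩).op
      (a i.down.1 j.down.1)
  have hav : ∀ {T T' : X.Etale} (g : T' ⟶ T) (i j : Mem U T), I.obj.map g.op (av i j) =
      av (T := T') ⟨⟨i.down.1, range_subset g i.down.2⟩⟩ ⟨⟨j.down.1, range_subset g j.down.2⟩⟩ := by
    intro T T' g i j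
    show I.obj.map g.op (I.obj.map _ _) = I.obj.map _ _
    rw [← Functor.map_comp_apply, ← op_comp]
    exact map_wet I _ _ _
  have hadd : ∀ {T : X.Etale} (i j k : Mem U T), av i j + av j k = av i k := by
    intro T i j k
    have hr : Sits T (U i.down.1 ⊓ U j.down.1 ⊓ U k.down.1) :=
      fun x => ⟨⟨i.down.2 x, j.down.2 x⟩, k.down.2 x⟩
    have h := congrArg (I.obj.map (toWet T _ hr).op) (ha i.down.1 j.down.1 k.down.1)
    rw [map_add] at h
    simp only [resW, ← Functor.map_comp_apply, ← op_comp] at h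
    refine Eq.trans ?_ (h.trans (map_wet I _ _ _))
    exact congrArg₂ (· + ·) (map_wet I _ _ _) (map_wet I _ _ _)
  let base : ∀ {T : X.Etale}, Mem U T → (FreeAbelianGroup (Mem U T) →+ I.obj.obj (op T)) :=
    fun k => FreeAbelianGroup.lift fun i => av i k
  have hbase : ∀ {T : X.Etale} (k k' : Mem U T) (x : FreeAbelianGroup (Mem U T)),
      base k x = base k' x + aug U T x • av k' k := by
    intro T k k' x
    induction x using FreeAbelianGroup.induction_on with
    | zero => simp
    | of i => simp [base, aug, hadd]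
    | neg i hi => rw [map_neg, map_neg, hi, map_neg, neg_smul]; abel
    | add x y hx hy => rw [map_add, map_add, map_add, hx, hy, add_smul]; abel
  let Φ : ∀ T : X.Etale, (aug U T).ker →+ I.obj.obj (op T) := fun T =>
    if h : Nonempty (Mem U T) then (base h.some).comp (aug U T).ker.subtype else 0
  have hΦ : ∀ {T : X.Etale} (k : Mem U T) (x : (aug U T).ker), Φ T x = base k x.1 := by
    intro T k x
    have h : Nonempty (Mem U T) := ⟨k⟩
    simp only [Φ, dif_pos h, AddMonoidHom.comp_apply]
    refine (hbase h.some k x.1).trans ?_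
    rw [show aug U T x.1 = 0 from x.2, zero_smul, add_zero]
  have hnat : ∀ {T T' : X.Etaleᵒᵖ} (g : T ⟶ T') (x : (aug U T.unop).ker),
      Φ T'.unop ((diffP U).map g x) = I.obj.map g (Φ T.unop x) := by
    intro T T' g x
    rcases isEmpty_or_nonempty (Mem U T.unop) with hE | ⟨⟨k⟩⟩
    · have hx : x = 0 := Subsingleton.elim _ _
      subst hx
      rw [map_zero (Φ T.unop), map_zero]
      exact (congrArg (Φ T'.unop) (map_zero ((diffP U).map g).hom)).trans (map_zero _)
    · rw [hΦ k, hΦ (⟨⟨k.down.1, range_subset g.unop k.down.2⟩⟩ : Mem U T'.unop)]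
      obtain ⟨x, hx⟩ := x
      show base _ (FreeAbelianGroup.map _ x) = I.obj.map g (base k x)
      clear hx
      induction x using FreeAbelianGroup.induction_on with
      | zero => simp
      | of i =>
        simp only [base, FreeAbelianGroup.map_of_apply, FreeAbelianGroup.lift_apply_of]
        exact (hav g.unop i k).symm
      | neg i hi => simp only [map_neg, hi]
      | add x y hx hy => simp only [map_add, hx, hy]
  let φ : diffP U ⟶ I.obj :=
    { app := fun T => AddCommGrpCat.ofHom (Φ T.unop)
      naturality := fun T T' g => by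
        ext x
        exact hnat g x }
  haveI : Mono (diffIncl U) := by
    haveI : ∀ T, Mono ((diffIncl U).app T) := fun T =>
      (AddCommGrpCat.mono_iff_injective _).2 Subtype.val_injective
    exact NatTrans.mono_of_mono_app _
  let ψ := Injective.factorThru φ (diffIncl U)
  have hψ : diffIncl U ≫ ψ = φ := Injective.comp_factorThru φ (diffIncl U)
  let m : ∀ i, Mem U (wet (U i)) := fun i => ⟨⟨i, range_wet _⟩⟩
  refine ⟨fun i => ψ.app (op (wet (U i))) (FreeAbelianGroup.of (m i)), fun i j => ?_⟩
  let mi : Mem U (wet (U i ⊓ U j)) := ⟨⟨i, fun x => (range_wet _ x).1⟩⟩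
  let mj : Mem U (wet (U i ⊓ U j)) := ⟨⟨j, fun x => (range_wet _ x).2⟩⟩
  have hker : (FreeAbelianGroup.of mi - FreeAbelianGroup.of mj) ∈ (aug U (wet (U i ⊓ U j))).ker := by
    simp [aug]
  have h1 : ψ.app (op (wet (U i ⊓ U j))) (FreeAbelianGroup.of mi - FreeAbelianGroup.of mj) =
      Φ _ ⟨_, hker⟩ :=
    ConcreteCategory.congr_hom (congrArg (fun z => z.app (op (wet (U i ⊓ U j)))) hψ) ⟨_, hker⟩
  have haa : av mj mj = 0 := by simpa using hadd mj mj mj
  have h2 : a i j = av mi mj :=
    ((ConcreteCategory.congr_hom (I.obj.map_id _) (a i j)).symm).trans (map_wet I (𝟙 _) _ _)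
  rw [hΦ mj, map_sub] at h1
  simp only [base, FreeAbelianGroup.lift_apply_of, haa, sub_zero] at h1
  rw [h2, ← h1]
  refine ((ψ.app (op (wet (U i ⊓ U j)))).hom.map_sub (FreeAbelianGroup.of mi) (FreeAbelianGroup.of mj)).trans ?_
  refine congrArg₂ (· - ·) ?_ ?_
  · exact (congrArg _ (FreeAbelianGroup.map_of_apply (f := memMap U (wetMap inf_le_left)) (m i)).symm).trans
      (NatTrans.naturality_apply ψ (wetMap inf_le_left).op (FreeAbelianGroup.of (m i)))
  · exact (congrArg _ (FreeAbelianGroup.map_of_apply (f := memMap U (wetMap inf_le_right)) (m j)).symm).trans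
      (NatTrans.naturality_apply ψ (wetMap inf_le_right).op (FreeAbelianGroup.of (m j)))

end Split

end Groth.EtaleBase.GmPic
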